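import Groth.Agent.S7868
import Groth.Agent.S9787
import Groth.Agent.S2348
import Groth.Agent.S16559
import Groth.Agent.S0844
import Groth.Agent.Lib.BlowCanon10.Basic
import Groth.Agent.Lib.RegRat32.Point
import Groth.Agent.Lib.RegSmooth17.Scheme
import Groth.Agent.Lib.PlaneBlow10.Basic

/-!
# The plane blown up in one point
-/

set_option autoImplicit false
set_option linter.style.haveILetI false
set_option linter.unusedSectionVars false
set_option maxHeartbeats 1000000
set_option backward.isDefEq.respectTransparency false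
set_option backward.isDefEq.respectTransparency.types false

universe u

open CategoryTheory CategoryTheory.Limits AlgebraicGeometry TopologicalSpace Opposite

namespace Groth.Agent.PlaneOne10

open Groth.Agent Groth.Agent.NumConn10
open Groth.Agent.SymSq10 (sdot)
open Groth.Agent.HypSq10 (chi rep rep_inv cls_rep hh)

noncomputable local instance instLawP1 (Y : Scheme.{u}) : PicGrp.Law Y := M2.law Y

variable {k : Type u} [Field k] [IsAlgClosed k]

local notation "P₂" => CohB1.ProjSpace 2 k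

omit [IsAlgClosed k] in
theorem over_eq {A S : Scheme.{u}} (a : A.Over S) (f : A ⟶ S) (h : (letI := a; A ↘ S) = f) : a = ⟨f⟩ := by
  cases a
  subst h
  rfl

theorem irr_projPlane : ∀ Z ∈ irreducibleComponents (CohB1.ProjSpace 2 k : Type u), topologicalKrullDim Z = 2 := by
  haveI := RegExt.isIntegral_projSpace 2 k
  intro Z hZ
  rw [irreducibleComponents_eq_singleton] at hZ
  rw [Set.mem_singleton_iff.1 hZ, (Homeomorph.Set.univ P₂).isHomeomorph.topologicalKrullDim_eq,
    Groth.Agent.S10829.result k 2]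
  rfl

theorem regular_projPlane (x : P₂) : IsRegularLocalRing ((CohB1.ProjSpace 2 k).presheaf.stalk x) := by
  letI : (CohB1.ProjSpace 2 k).Over (Spec (CommRingCat.of k)) := ⟨CohB1.ProjSpace.toSpec 2 k⟩
  haveI : Smooth ((CohB1.ProjSpace 2 k) ↘ Spec (CommRingCat.of k)) :=
    (inferInstance : Smooth (CohB1.ProjSpace.toSpec 2 k))
  haveI : IsProper ((CohB1.ProjSpace 2 k) ↘ Spec (CommRingCat.of k)) := ProjSpace.isProper_toSpec 2 k
  haveI := RegExt.isIntegral_projSpace 2 k
  exact SurfRR10.regular (k := k) x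

variable {p : ↥(CohB1.ProjSpace 2 k)} (hp : IsClosed ({p} : Set ↥(CohB1.ProjSpace 2 k)))
include hp

theorem stalk_dim : ringKrullDim ((CohB1.ProjSpace 2 k).presheaf.stalk p) = 2 := by
  letI : (CohB1.ProjSpace 2 k).Over (Spec (CommRingCat.of k)) := ⟨CohB1.ProjSpace.toSpec 2 k⟩
  haveI : IsProper ((CohB1.ProjSpace 2 k) ↘ Spec (CommRingCat.of k)) := ProjSpace.isProper_toSpec 2 k
  exact BlowInt10.ringKrullDim_stalk_of_components (k := k) irr_projPlane hp

variable {X : Scheme.{u}} [X.Over (Spec (CommRingCat.of k))] (σ : X ⟶ CohB1.ProjSpace 2 k)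
  (hσk : σ ≫ CohB1.ProjSpace.toSpec 2 k = X ↘ Spec (CommRingCat.of k))
  (hσ : BlowUp.IsBlowUp σ (PointBlowUp.ptIdeal hp))
include hσk hσ

/-- The blown up plane is an integral smooth proper surface. -/
theorem setup : IsIntegral X ∧ IsProper (X ↘ Spec (CommRingCat.of k)) ∧
    Smooth (X ↘ Spec (CommRingCat.of k)) ∧ topologicalKrullDim X = 2 := by
  haveI := RegExt.isIntegral_projSpace 2 k
  haveI : IsProper (CohB1.ProjSpace.toSpec 2 k) := ProjSpace.isProper_toSpec 2 k
  letI : (CohB1.ProjSpace 2 k).Over (Spec (CommRingCat.of k)) := ⟨CohB1.ProjSpace.toSpec 2 k⟩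
  haveI : IsProper ((CohB1.ProjSpace 2 k) ↘ Spec (CommRingCat.of k)) := ProjSpace.isProper_toSpec 2 k
  haveI : IsNoetherian (CohB1.ProjSpace 2 k) :=
    CohFound.isNoetherian_of_isProper ((CohB1.ProjSpace 2 k) ↘ Spec (CommRingCat.of k))
  have hne : (⟨{p}ᶜ, hp.isOpen_compl⟩ : (CohB1.ProjSpace 2 k).Opens) ≠ ⊥ := fun h => by
    have hall : ∀ z : P₂, z = p := fun z => by_contra fun hz =>
      (h.le (show z ∈ (⟨{p}ᶜ, hp.isOpen_compl⟩ : (CohB1.ProjSpace 2 k).Opens) from hz) : False)
    haveI : Subsingleton P₂ := ⟨fun a b => (hall a).trans (hall b).symm⟩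
    have h2 := stalk_dim hp
    have h1 : topologicalKrullDim P₂ ≤ 0 := by
      rw [topologicalKrullDim, Order.krullDim_nonpos_iff_forall_isMax]
      exact fun A B _ => by
        intro z hz
        obtain ⟨a, ha⟩ := A.isIrreducible.nonempty
        exact Subsingleton.elim a z ▸ ha
    rw [Groth.Agent.S10829.result k 2] at h1
    exact absurd h1 (by decide)
  have hI : PointBlowUp.ptIdeal hp ≠ ⊥ := fun h => hne (by
    refine le_bot_iff.1 fun z hz => ?_
    have : z ∈ ((PointBlowUp.ptIdeal hp).support : Set P₂) := by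
      rw [h, Scheme.IdealSheafData.support_bot]
      trivial
    rw [PointBlowUp.coe_support_ptIdeal hp] at this
    exact absurd this hz)
  obtain ⟨hint, hgen, -⟩ := Groth.Agent.S2348.result _ hI σ hσ
  haveI := hint
  haveI : IsProper σ := PointBlowUp.isProper hp hσ
  haveI hXp : IsProper (X ↘ Spec (CommRingCat.of k)) := by rw [← hσk]; infer_instance
  haveI := PointBlowUp.isClosedImmersion_residue hp
  haveI : Smooth ((CohB1.ProjSpace 2 k).fromSpecResidueField p ≫ CohB1.ProjSpace.toSpec 2 k) := by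
    rw [← SpecMap_residueFieldIsoBase_inv (CohB1.ProjSpace.toSpec 2 k) p hp]
    infer_instance
  have hsm := (Groth.Agent.S9787.result (CohB1.ProjSpace.toSpec 2 k) ((CohB1.ProjSpace 2 k).fromSpecResidueField p) σ
    (by rw [PointBlowUp.ker_fromSpecResidueField hp]; exact hσ)).1
  rw [hσk] at hsm
  refine ⟨hint, hXp, hsm, ?_⟩
  haveI := PointBlowUp.isIso_restrict hp hσ
  have hU : genericPoint X ∈ σ ⁻¹ᵁ (⟨{p}ᶜ, hp.isOpen_compl⟩ : (CohB1.ProjSpace 2 k).Opens) := by
    show σ (genericPoint X) ≠ p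
    rw [hgen]
    intro e
    apply hne
    refine le_bot_iff.1 fun z hz => ?_
    have hm := (genericPoint_specializes z).mem_open (⟨{p}ᶜ, hp.isOpen_compl⟩ : (CohB1.ProjSpace 2 k).Opens).2 hz
    exact absurd e hm
  let U := σ ⁻¹ᵁ (⟨{p}ᶜ, hp.isOpen_compl⟩ : (CohB1.ProjSpace 2 k).Opens)
  haveI : IsOpenImmersion (U.ι ≫ σ) := by
    rw [← morphismRestrict_ι]
    infer_instance
  have h1 := VarDim.sdim_comp_of_surjective (X ↘ Spec (CommRingCat.of k)) U.ι ⟨genericPoint X, hU⟩
  have h2 := VarDim.sdim_comp_of_surjective (CohB1.ProjSpace.toSpec 2 k) (U.ι ≫ σ) ⟨genericPoint X, hU⟩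
  rw [Category.assoc, hσk, h1] at h2
  rw [VarDim.dim_eq_sdim_genericPoint (X ↘ Spec (CommRingCat.of k))]
  have h3 := VarDim.dim_eq_sdim_genericPoint (CohB1.ProjSpace.toSpec 2 k)
  rw [Groth.Agent.S10829.result k 2, ← hgen] at h3
  exact (congrArg (fun n : ℕ => (n : WithBot ℕ∞)) h2).trans h3.symm

variable [IsIntegral X] [IsProper (X ↘ Spec (CommRingCat.of k))] [Smooth (X ↘ Spec (CommRingCat.of k))]
  (hdim : topologicalKrullDim X = 2)
include hdim

/-- The plane blown up in a point has `χ(O) = 1`. -/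
theorem chi_one : chi k (1 : PicLoc.PicSet X) = 1 := by
  haveI : IsNoetherian X := CohFound.isNoetherian_of_isProper (X ↘ Spec (CommRingCat.of k))
  have hO := PicLoc.isInvertible_structureModule X
  haveI := RegExt.isIntegral_projSpace 2 k
  haveI : IsProper (CohB1.ProjSpace.toSpec 2 k) := ProjSpace.isProper_toSpec 2 k
  haveI : IsNoetherian (CohB1.ProjSpace 2 k) := CohFound.isNoetherian_of_isProper (CohB1.ProjSpace.toSpec 2 k)
  haveI := regular_projPlane (k := k) p
  haveI h1 : Subsingleton (Coh.HH X (Coh.structureModule X) 1) := by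
    refine RegRat.subsingleton_HH_one_point hp σ hσ (stalk_dim hp) ?_
    have h0 := Groth.Agent.S0844.result k 2 0 1 (fun h => absurd h.1 (by decide)) (fun h => absurd h.1 (by decide))
    letI : (CohB1.ProjSpace 2 k).Over (Spec (CommRingCat.of k)) := ⟨CohB1.ProjSpace.toSpec 2 k⟩
    exact @Equiv.subsingleton _ _ (CurveCoh17.hequiv k (CMReg18.projData k 2).zero 1).symm.toEquiv h0
  have hr : Set.range (fun _ : Fin 1 => p) = {p} := Set.range_const
  have hclos : (⟨Set.range (fun _ : Fin 1 => p), hr.symm ▸ hp⟩ : Closeds P₂) = ⟨{p}, hp⟩ :=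
    Closeds.ext hr
  haveI h2 : Subsingleton (Coh.HH X (Coh.structureModule X) 2) := by
    have hH := Twist.isInvertible_pullback σ (CMReg18.isAmple_twistOne (n := 2) k).1
    refine Groth.Agent.S16559.result k 1 (fun _ => p) (Function.injective_of_subsingleton _) (fun _ => hp)
      (hr.symm ▸ hp) X σ hσk (by rw [hclos]; exact hσ) hdim _ hO ?_
    rw [SymSq10.intNum_eq' (k := k) (SurfRR10.dim_eq (k := k) hdim).le hO hH, PicGrp.cls_structureModule_eq_one]
    show (-2 : ℤ) ≤ sdot k _ _
    rw [SymSq10.sdot_one_left]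
    decide
  rw [← PicGrp.cls_structureModule_eq_one, ← HypSq10.euler_eq_chi hO, Curv2.euler,
    finsum_eq_finsetSum_of_support_subset (s := Finset.range 1)]
  · rw [Finset.sum_range_one, SurfRR10.finrank_h0_eq_one (k := k) (X := X)]
    simp
  · intro i hi
    simp only [Finset.coe_range, Set.mem_Iio]
    by_contra hlt
    have hS : Subsingleton (Coh.HH X (Coh.structureModule X) i) := by
      rcases lt_or_ge 2 i with h | h
      · exact NumPoly18.subsingleton_HH_of_support (k := k) (M1.isCoh_structureModule X)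
          ((Snapper.dim_le_of_subset (Set.subset_univ _)
            ((Homeomorph.Set.univ X).isHomeomorph.topologicalKrullDim_eq.trans (SurfRR10.dim_eq (k := k) hdim)).le)) h
      · obtain rfl | rfl : i = 1 ∨ i = 2 := by omega
        · exact h1
        · exact h2
    exact hi (by simp [Module.finrank_zero_of_subsingleton])

/-- Exceptional numbers. -/
theorem exc_numbers {W : X.Modules} (hW : ExtPow.IsExtPow 2 (Omega.sheaf (X ↘ Spec (CommRingCat.of k))) W)
    (hWi : PicF.IsInvertible W)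
    (hH : PicF.IsInvertible ((Scheme.Modules.pullback σ).obj (Twist.twistProjSpace 2 k 1))) :
    sdot k (icl hσ.1) (icl hσ.1) = -1 ∧ sdot k (PicGrp.cls _ hH) (icl hσ.1) = 0 ∧
      sdot k (icl hσ.1) (PicGrp.cls W hWi) = 1 := by
  classical
  haveI : IsNoetherian X := CohFound.isNoetherian_of_isProper (X ↘ Spec (CommRingCat.of k))
  letI : (CohB1.ProjSpace 2 k).Over (Spec (CommRingCat.of k)) := ⟨CohB1.ProjSpace.toSpec 2 k⟩
  haveI : IsProper ((CohB1.ProjSpace 2 k) ↘ Spec (CommRingCat.of k)) := ProjSpace.isProper_toSpec 2 k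
  haveI := RegExt.isIntegral_projSpace 2 k
  haveI := regular_projPlane (k := k) p
  have hd := SurfRR10.dim_eq (k := k) (X := X) hdim
  have hT := (CMReg18.isAmple_twistOne (n := 2) k).1
  have key : FGA.intNum k X 2 ![(Scheme.Modules.pullback σ).obj (Twist.twistProjSpace 2 k 1),
        ClSub.idealMod (BlowUp.exceptional σ (PointBlowUp.ptIdeal hp))] (Coh.structureModule X) = 0 ∧
      FGA.intNum k X 2 ![ClSub.idealMod (BlowUp.exceptional σ (PointBlowUp.ptIdeal hp)),
        ClSub.idealMod (BlowUp.exceptional σ (PointBlowUp.ptIdeal hp))] (Coh.structureModule X) = -1 := by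
    obtain rfl : ‹X.Over (Spec (CommRingCat.of k))› = ⟨σ ≫ CohB1.ProjSpace.toSpec 2 k⟩ := over_eq _ _ hσk.symm
    obtain ⟨-, hce, hee⟩ := Groth.Agent.S7868.result k (CohB1.ProjSpace 2 k) irr_projPlane regular_projPlane p hp X σ hσ
      _ _ hT hT
    rw [CurveCoh17.finrank_residueField (k := k) hp] at hee
    exact ⟨hce, hee⟩
  obtain ⟨hce, hee⟩ := key
  have hEi := M2.isInvertible_idealMod _ hσ.1
  rw [SymSq10.intNum_eq' hd.le hEi hEi] at hee
  rw [SymSq10.intNum_eq' hd.le hH hEi] at hce
  change sdot k (icl hσ.1) (icl hσ.1) = _ at hee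
  change sdot k _ (icl hσ.1) = _ at hce
  refine ⟨hee, hce, ?_⟩
  obtain ⟨e, -, -⟩ := PointBlowUp.exceptional_point hp (stalk_dim hp) σ hσ
  haveI := RegExt.isIntegral_projSpace 1 ((CohB1.ProjSpace 2 k).residueField p)
  haveI : Nonempty (BlowUp.exceptional σ (PointBlowUp.ptIdeal hp)).subscheme := ⟨e.hom (genericPoint _)⟩
  haveI : IsIntegral (BlowUp.exceptional σ (PointBlowUp.ptIdeal hp)).subscheme := isIntegral_of_isOpenImmersion e.inv
  have hdE : topologicalKrullDim (BlowUp.exceptional σ (PointBlowUp.ptIdeal hp)).subscheme = 1 := by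
    rw [← (e.hom.homeomorph).isHomeomorph.topologicalKrullDim_eq, Groth.Agent.S10829.result _ 1]
    rfl
  have hgE := Groth.Agent.BlowCanon10.chi_exceptional (k := k) hdE hσ.1 e
  have hr := SurfRR10.rr (k := k) (X := X) hdim hW hWi (icl hσ.1)
  rw [SurfRR10.phi, hee] at hr
  push_cast at hr
  omega

end Groth.Agent.PlaneOne10
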