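import Groth.Agent.Lib.PlaneOne10.Basic
import Groth.Agent.Lib.ExcTwist10.Basic
import Groth.Agent.Lib.PicPn.Main
import Groth.Agent.S16558

/-!
# Cohomology of line bundles on the plane blown up in one point
-/

set_option autoImplicit false
set_option linter.style.haveILetI false
set_option linter.unusedSectionVars false
set_option maxHeartbeats 1000000
set_option backward.isDefEq.respectTransparency false
set_option backward.isDefEq.respectTransparency.types false

universe u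

open CategoryTheory CategoryTheory.Limits AlgebraicGeometry TopologicalSpace Opposite

noncomputable section

namespace Groth.Agent.PlaneOne10

open Groth.Agent Groth.Agent.NumConn10
open Groth.Agent.NumPoly18 (ptIdeal)
open Groth.Agent.SymSq10 (sdot)
open Groth.Agent.SurfRR10 (ncl)
open Groth.Agent.HypSq10 (chi rep rep_inv cls_rep hh)

noncomputable local instance instLawP1C (Y : Scheme.{u}) : PicGrp.Law Y := M2.law Y

variable {k : Type u} [Field k] [IsAlgClosed k]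

theorem cls_twist (a : ℤ) :
    PicGrp.cls _ ((CMReg18.projData k 2).inv a) = PicGrp.cls _ ((CMReg18.projData k 2).inv 1) ^ a := by
  let D := CMReg18.projData k 2
  let φ : Multiplicative ℤ →* PicLoc.PicSet (CohB1.ProjSpace 2 k) :=
    { toFun := fun n => PicGrp.cls _ (D.inv n.toAdd)
      map_one' := by
        show PicGrp.cls _ (D.inv 0) = 1
        rw [(PicGrp.cls_eq_cls_iff (D.inv 0) (PicLoc.isInvertible_structureModule _)).2 ⟨D.zero⟩,
          PicGrp.cls_structureModule_eq_one]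
      map_mul' := fun i j => by
        show PicGrp.cls _ (D.inv (i.toAdd + j.toAdd)) = PicGrp.cls _ (D.inv i.toAdd) * PicGrp.cls _ (D.inv j.toAdd)
        rw [AlgEquiv22.cls_tensor]
        exact (PicGrp.cls_eq_cls_iff (D.inv _) (M2.isInvertible_tensor (D.inv i.toAdd) (D.inv j.toAdd))).2
          ⟨(D.add _ _).symm⟩ }
  have h := map_zpow φ (Multiplicative.ofAdd 1) a
  rw [show (Multiplicative.ofAdd (1 : ℤ)) ^ a = Multiplicative.ofAdd a from by rw [← ofAdd_zsmul, smul_eq_mul, mul_one]] at h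
  exact h

variable {p : ↥(CohB1.ProjSpace 2 k)} (hp : IsClosed ({p} : Set ↥(CohB1.ProjSpace 2 k)))
  {X : Scheme.{u}} [X.Over (Spec (CommRingCat.of k))] (σ : X ⟶ CohB1.ProjSpace 2 k)
  (hσk : σ ≫ CohB1.ProjSpace.toSpec 2 k = X ↘ Spec (CommRingCat.of k))
  (hσ : BlowUp.IsBlowUp σ (PointBlowUp.ptIdeal hp))
  [IsIntegral X] [IsProper (X ↘ Spec (CommRingCat.of k))] [Smooth (X ↘ Spec (CommRingCat.of k))]
  (hdim : topologicalKrullDim X = 2)

/-- The class of a line. -/
def hcl : PicLoc.PicSet X := PicGrp.cls _ (Twist.isInvertible_pullback σ ((CMReg18.projData k 2).inv 1))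

/-- The class `aH - iE`. -/
def pr (a i : ℤ) : PicLoc.PicSet X := hcl σ ^ a * icl hσ.1 ^ i

theorem pr_mul (a i a' i' : ℤ) : pr hp σ hσ a i * pr hp σ hσ a' i' = pr hp σ hσ (a + a') (i + i') := by
  rw [pr, pr, pr, zpow_add, zpow_add, mul_mul_mul_comm]

theorem van_congr {a i a' i' : ℤ} (ha : a = a') (hi : i = i') (h : Subsingleton (Coh.HH X (rep (pr hp σ hσ a' i')) 1)) :
    Subsingleton (Coh.HH X (rep (pr hp σ hσ a i)) 1) := by
  subst ha hi
  exact h

theorem pr_zero : pr hp σ hσ 0 0 = 1 := by rw [pr, zpow_zero, zpow_zero, mul_one]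

theorem pr_inv (a i : ℤ) : (pr hp σ hσ a i)⁻¹ = pr hp σ hσ (-a) (-i) :=
  inv_eq_of_mul_eq_one_right (by rw [pr_mul, add_neg_cancel, add_neg_cancel, pr_zero])

include hσk hdim

omit hσk in
theorem sdot_zpow (n : ℤ) (x y : PicLoc.PicSet X) : sdot k (x ^ n) y = n * sdot k x y := by
  cases n with
  | ofNat m => rw [Int.ofNat_eq_natCast, zpow_natCast, SurfRR10.sdot_pow_left (k := k) hdim]
  | negSucc m =>
    rw [zpow_negSucc, SurfRR10.sdot_inv_left (k := k) hdim, SurfRR10.sdot_pow_left (k := k) hdim, Int.negSucc_eq]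
    push_cast
    ring

theorem sdot_pr (a i : ℤ) (y : PicLoc.PicSet X) :
    sdot k (pr hp σ hσ a i) y = a * sdot k (hcl σ) y + i * sdot k (icl hσ.1) y := by
  rw [pr, SymSq10.sdot_mul (k := k) (SurfRR10.dim_eq (k := k) hdim).le, sdot_zpow hdim, sdot_zpow hdim]

theorem base_numbers {W : X.Modules} (hW : ExtPow.IsExtPow 2 (Omega.sheaf (X ↘ Spec (CommRingCat.of k))) W)
    (hWi : PicF.IsInvertible W) :
    sdot k (icl hσ.1) (icl hσ.1) = -1 ∧ sdot k (hcl σ) (icl hσ.1) = 0 ∧ sdot k (icl hσ.1) (hcl σ) = 0 ∧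
      sdot k (icl hσ.1) (PicGrp.cls W hWi) = 1 ∧
      sdot k (hcl σ) (hcl σ) = 1 ∧ sdot k (hcl σ) (PicGrp.cls W hWi) = -3 := by
  have hH := Twist.isInvertible_pullback σ ((CMReg18.projData k 2).inv 1)
  obtain ⟨h1, h2, h3⟩ := exc_numbers hp σ hσk hσ hdim hW hWi hH
  have hr : Set.range (fun _ : Fin 1 => p) = {p} := Set.range_const
  have hclos : (⟨Set.range (fun _ : Fin 1 => p), hr.symm ▸ hp⟩ : Closeds (CohB1.ProjSpace 2 k)) = ⟨{p}, hp⟩ :=
    Closeds.ext hr
  obtain ⟨h4, h5⟩ := PlaneBlow10.line_numbers (k := k) hdim (fun _ : Fin 1 => hp) (hr.symm ▸ hp) σ hσk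
    (by rw [hclos]; exact hσ) hW hWi hH
  exact ⟨h1, h2, (SymSq10.sdot_comm _ _).trans h2, h3, h4, h5⟩

theorem sdot_prpr (a i a' i' : ℤ) : sdot k (pr hp σ hσ a i) (pr hp σ hσ a' i') = a * a' - i * i' := by
  obtain ⟨W, hW⟩ := NumConn10.exists_canonical (k := k) hdim
  obtain ⟨hee, hhe, heh, -, hhh, -⟩ := base_numbers hp σ hσk hσ hdim hW (SurfRR10.isInvertible_canonical hdim hW)
  rw [sdot_pr hp σ hσk hσ hdim, SymSq10.sdot_comm (hcl σ), sdot_pr hp σ hσk hσ hdim,
    SymSq10.sdot_comm (icl hσ.1) (pr hp σ hσ a' i'), sdot_pr hp σ hσk hσ hdim, hee, hhe, heh, hhh]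
  ring

/-- Every class is a combination of a line and the exceptional curve. -/
theorem exists_pr (c : PicLoc.PicSet X) : ∃ a i : ℤ, c = pr hp σ hσ a i := by
  haveI : IsNoetherian X := CohFound.isNoetherian_of_isProper (X ↘ Spec (CommRingCat.of k))
  haveI := RegExt.isIntegral_projSpace 2 k
  haveI : IsProper (CohB1.ProjSpace.toSpec 2 k) := ProjSpace.isProper_toSpec 2 k
  haveI : IsNoetherian (CohB1.ProjSpace 2 k) := CohFound.isNoetherian_of_isProper (CohB1.ProjSpace.toSpec 2 k)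
  haveI := regular_projPlane (k := k) p
  obtain ⟨b, n, rfl⟩ := BlowPic10.exists_decomp hp (stalk_dim hp) σ hσ regular_projPlane c
  obtain ⟨M, hM, rfl⟩ := PicGrp.exists_eq_cls b
  obtain ⟨d, ⟨e⟩⟩ := PicPn.exists_iso_twist (n := 2) (R := k) hM
  refine ⟨d, n, ?_⟩
  rw [pr, hcl]
  congr 1
  rw [(PicGrp.cls_eq_cls_iff hM ((CMReg18.projData k 2).inv d)).2 ⟨e⟩, cls_twist, map_zpow]
  exact congrArg (· ^ d) (PicGrp.pullHom_cls _ _ _ _)

theorem canonical_pr {W : X.Modules} (hW : ExtPow.IsExtPow 2 (Omega.sheaf (X ↘ Spec (CommRingCat.of k))) W)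
    (hWi : PicF.IsInvertible W) : PicGrp.cls W hWi = pr hp σ hσ (-3) (-1) := by
  obtain ⟨hee, hhe, heh, heW, hhh, hhW⟩ := base_numbers hp σ hσk hσ hdim hW hWi
  obtain ⟨a, i, h⟩ := exists_pr hp σ hσk hσ hdim (PicGrp.cls W hWi)
  rw [h, SymSq10.sdot_comm, sdot_pr hp σ hσk hσ hdim, hee, hhe] at heW
  rw [h, SymSq10.sdot_comm, sdot_pr hp σ hσk hσ hdim, hhh, heh] at hhW
  rw [h, show a = -3 by omega, show i = -1 by omega]

/-- Riemann-Roch. -/
theorem chi_pr (a i : ℤ) : 2 * chi k (pr hp σ hσ a i) = a * a + 3 * a - i * i - i + 2 := by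
  obtain ⟨W, hW⟩ := NumConn10.exists_canonical (k := k) hdim
  have hWi := SurfRR10.isInvertible_canonical hdim hW
  have h := SurfRR10.rr (k := k) (X := X) hdim hW hWi (pr hp σ hσ a i)
  rw [SurfRR10.phi, canonical_pr hp σ hσk hσ hdim hW hWi, sdot_prpr hp σ hσk hσ hdim, sdot_prpr hp σ hσk hσ hdim,
    chi_one hp σ hσk hσ hdim] at h
  linarith

theorem duality (a i : ℤ) {q : ℕ} (hq : q ≤ 2) :
    hh k q (pr hp σ hσ a i) = hh k (2 - q) (pr hp σ hσ (-3 - a) (-1 - i)) := by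
  obtain ⟨W, hW⟩ := NumConn10.exists_canonical (k := k) hdim
  have hWi := SurfRR10.isInvertible_canonical hdim hW
  have h := SurfRR10.finrank_duality hdim hW hWi (pr hp σ hσ a i) hq
  rw [canonical_pr hp σ hσk hσ hdim hW hWi, pr_inv, pr_mul, show -a + -3 = -3 - a by ring,
    show -i + -1 = -1 - i by ring] at h
  exact h

omit hσk in
theorem finite_hh (c : PicLoc.PicSet X) (q : ℕ) : Module.Finite k (Coh.HH X (rep c) q) := by
  haveI : IsNoetherian X := CohFound.isNoetherian_of_isProper (X ↘ Spec (CommRingCat.of k))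
  exact CohFound.finite_HH_of_isProper _ (Snapper.isCoh_of_isInvertible (rep_inv c)) q

omit hσk in
theorem chi_eq (c : PicLoc.PicSet X) : chi k c = (hh k 0 c : ℤ) - hh k 1 c + hh k 2 c := by
  haveI : IsNoetherian X := CohFound.isNoetherian_of_isProper (X ↘ Spec (CommRingCat.of k))
  rw [chi, Curv2.euler, finsum_eq_finsetSum_of_support_subset (s := Finset.range 3)]
  · simp only [Finset.sum_range_succ, Finset.sum_range_zero, hh]
    push_cast
    ring
  · intro i hi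
    simp only [Finset.coe_range, Set.mem_Iio]
    by_contra hlt
    haveI := NumPoly18.subsingleton_HH_of_support (k := k) (Snapper.isCoh_of_isInvertible (rep_inv c))
      ((Snapper.dim_le_of_subset (Set.subset_univ _)
        ((Homeomorph.Set.univ X).isHomeomorph.topologicalKrullDim_eq.trans (SurfRR10.dim_eq (k := k) hdim)).le))
      (show 2 < i by omega)
    exact hi (by simp [Module.finrank_zero_of_subsingleton])

/-- A class negative on a nef class has no sections. -/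
theorem hh0_eq_zero_of_nef {n c : PicLoc.PicSet X}
    (hn : ∀ (ξ : X) (hξ : topologicalKrullDim (closure ({ξ} : Set X)) = 1), 0 ≤ sdot k (ncl (k := k) hdim hξ) n)
    (h : sdot k c n < 0) : hh k 0 c = 0 := by
  have hd := SurfRR10.dim_eq (k := k) (X := X) hdim
  haveI : Subsingleton (Coh.HH X (rep c) 0) := by
    refine not_nontrivial_iff_subsingleton.1 fun hnt => ?_
    obtain ⟨A, hA⟩ := SurfRR10.exists_ample (k := k) hdim
    have hnef : NumPoly18.Nef k (rep n) := fun η hη => by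
      rw [show NumPoly18.ptMod η = ClSub.quotMod (NumPoly18.ptIdeal η) from rfl,
        Goodman10.cdeg_eq_sdot (k := k) (SurfRR10.regular (k := k)) hd hη (rep_inv n), cls_rep, SymSq10.sdot_comm]
      rw [SymSq10.sdot_comm]
      exact Int.cast_nonneg (hn η hη)
    have h0 := NumPoly18.dot_nonneg_of_hasMonoSec (k := k) hd.le hA (rep_inv c)
      (NumPoly18.hasMonoSec_of_nontrivial k (rep_inv c) hnt) (rep_inv n) hnef
    rw [SurfRR10.dot_eq_sdot (k := k) hdim (rep_inv c) (rep_inv n), cls_rep, cls_rep] at h0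
    have h' : 0 ≤ sdot k c n := by exact_mod_cast h0
    omega
  exact Module.finrank_zero_of_subsingleton

theorem hcl_nonneg (ξ : X) (hξ : topologicalKrullDim (closure ({ξ} : Set X)) = 1) :
    0 ≤ sdot k (ncl (k := k) hdim hξ) (hcl σ) := by
  let N := (CMReg18.projData k 2).O 1
  have hN : CohB1.IsAmple N := Groth.Agent.CMReg18.isAmple_twistOne k
  have hd := SurfRR10.dim_eq (k := k) hdim
  obtain ⟨n, s, hs, -⟩ := hN.2.2 (σ ξ)
  have hNn := M2.isInvertible_tensorPow hN.1 (n + 1)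
  have hpn := Twist.isInvertible_pullback σ hNn
  let ψ := (Twist.pullbackUnitIso σ).symm.hom ≫ (Scheme.Modules.pullback σ).map s
  have hψ : CohB1.genLocus _ ψ = σ ⁻¹ᵁ CohB1.genLocus _ s := Amp.genLocus_pullback σ hNn s _
  have h := (Goodman10.sdot_of_section (k := k) (SurfRR10.regular (k := k)) hd hξ hpn ψ (by rw [hψ]; exact hs)).1
  have hcls : PicGrp.cls _ hpn = hcl σ ^ (n + 1) := by
    have h1 := PicGrp.pullHom_cls σ (M2.pullMul σ) (CohB1.tensorPow N (n + 1)) hNn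
    rw [HypSq10.cls_pow_eq hN.1, map_pow, PicGrp.pullHom_cls] at h1
    exact h1.symm
  rw [hcls, SymSq10.sdot_comm, SurfRR10.sdot_pow_left (k := k) hdim, SymSq10.sdot_comm] at h
  exact nonneg_of_mul_nonneg_right h (by omega)

theorem exists_exc : ∃ (η : X) (hη : topologicalKrullDim (closure ({η} : Set X)) = 1),
    ncl (k := k) hdim hη = pr hp σ hσ 0 (-1) := by
  haveI : IsNoetherian X := CohFound.isNoetherian_of_isProper (X ↘ Spec (CommRingCat.of k))
  haveI := RegExt.isIntegral_projSpace 2 k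
  haveI := regular_projPlane (k := k) p
  obtain ⟨η, -, hE⟩ := BlowPic10.exists_generic_exceptional hp (stalk_dim hp) σ hσ
  obtain ⟨e, -, -⟩ := PointBlowUp.exceptional_point hp (stalk_dim hp) σ hσ
  have hη : topologicalKrullDim (closure ({η} : Set X)) = 1 := by
    have hs : ((BlowUp.exceptional σ (PointBlowUp.ptIdeal hp)).support : Set X) = closure {η} := by
      rw [hE, Scheme.IdealSheafData.coe_support_vanishingIdeal]
      rfl
    rw [← AmpleFin18.dim_subscheme _ hs, ← (e.hom.homeomorph).isHomeomorph.topologicalKrullDim_eq,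
      Groth.Agent.S10829.result _ 1]
    rfl
  refine ⟨η, hη, ?_⟩
  have h : icl hσ.1 = (ncl (k := k) hdim hη)⁻¹ := by
    rw [icl_congr hσ.1 (cartier_pt (k := k) hdim hη) hE, icl_pt (k := k) hdim hη]
  rw [pr, zpow_zero, one_mul, zpow_neg_one, h, inv_inv]

/-- A curve other than the exceptional one. -/
theorem curve_cases (ξ : X) (hξ : topologicalKrullDim (closure ({ξ} : Set X)) = 1) :
    ∃ a i : ℤ, ncl (k := k) hdim hξ = pr hp σ hσ a i ∧
      ((a = 0 ∧ i = -1) ∨ (1 ≤ a ∧ 0 ≤ i ∧ -2 ≤ a * a - i * i - 3 * a + i)) := by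
  obtain ⟨W, hW⟩ := NumConn10.exists_canonical (k := k) hdim
  have hWi := SurfRR10.isInvertible_canonical hdim hW
  obtain ⟨η, hη, hE⟩ := exists_exc hp σ hσk hσ hdim
  obtain ⟨a, i, hc⟩ := exists_pr hp σ hσk hσ hdim (ncl (k := k) hdim hξ)
  refine ⟨a, i, hc, ?_⟩
  by_cases hne : ξ = η
  · subst hne
    left
    have h1 := congrArg (fun c => sdot k c (pr hp σ hσ 1 0)) (hc.symm.trans hE)
    have h2 := congrArg (fun c => sdot k c (pr hp σ hσ 0 1)) (hc.symm.trans hE)
    simp only [sdot_prpr hp σ hσk hσ hdim] at h1 h2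
    omega
  right
  have hh1 : pr hp σ hσ 1 0 = hcl σ := by rw [pr, zpow_one, zpow_zero, mul_one]
  have ha := hcl_nonneg σ hσk hdim ξ hξ
  rw [hc, ← hh1, sdot_prpr hp σ hσk hσ hdim] at ha
  have hi := NumConn10.ncl_nonneg (k := k) hdim hξ hη hne
  rw [hc, hE, sdot_prpr hp σ hσk hσ hdim] at hi
  obtain ⟨H, hH⟩ := SurfRR10.exists_ample (k := k) hdim
  obtain ⟨α, β, hαβ⟩ := exists_pr hp σ hσk hσ hdim (PicGrp.cls H hH.1)
  have hp1 := SurfRR10.pos_of_isAmple (k := k) hdim hξ hH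
  have hp2 := SurfRR10.pos_of_isAmple (k := k) hdim hη hH
  rw [hαβ, hc, sdot_prpr hp σ hσk hσ hdim] at hp1
  rw [hαβ, hE, sdot_prpr hp σ hσk hσ hdim] at hp2
  obtain ⟨g, hg, -⟩ := SurfRR10.exists_genus (k := k) hdim hW hWi hξ
  rw [hc, canonical_pr hp σ hσk hσ hdim hW hWi, sdot_prpr hp σ hσk hσ hdim, sdot_prpr hp σ hσk hσ hdim] at hg
  refine ⟨?_, by omega, by omega⟩
  rcases eq_or_lt_of_le (show (0 : ℤ) ≤ a by omega) with h0 | h0
  · subst h0
    nlinarith
  · omega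

/-- The pencil of lines through the point is nef. -/
theorem ruling_nonneg (ξ : X) (hξ : topologicalKrullDim (closure ({ξ} : Set X)) = 1) :
    0 ≤ sdot k (ncl (k := k) hdim hξ) (pr hp σ hσ 1 1) := by
  obtain ⟨a, i, hc, h⟩ := curve_cases hp σ hσk hσ hdim ξ hξ
  rw [hc, sdot_prpr hp σ hσk hσ hdim]
  rcases h with ⟨rfl, rfl⟩ | ⟨ha, hi, hg⟩
  · norm_num
  · by_contra hlt
    have h1 : a + 1 ≤ i := by omega
    nlinarith

theorem hh0_eq_zero_of_neg_line {a : ℤ} (i : ℤ) (ha : a < 0) : hh k 0 (pr hp σ hσ a i) = 0 := by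
  refine hh0_eq_zero_of_nef σ hσk hdim (n := hcl σ) (hcl_nonneg σ hσk hdim) ?_
  rw [show hcl σ = pr hp σ hσ 1 0 by rw [pr, zpow_one, zpow_zero, mul_one], sdot_prpr hp σ hσk hσ hdim]
  omega

theorem hh0_eq_zero_of_lt {a i : ℤ} (h : a < i) : hh k 0 (pr hp σ hσ a i) = 0 := by
  refine hh0_eq_zero_of_nef σ hσk hdim (n := pr hp σ hσ 1 1) (ruling_nonneg hp σ hσk hσ hdim) ?_
  rw [sdot_prpr hp σ hσk hσ hdim]
  omega

theorem exists_split (t : Multiset X) (ht : ∀ ξ ∈ t, topologicalKrullDim (closure ({ξ} : Set X)) = 1) :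
    ∃ a i : ℤ, (t.map (ccl (k := k) hdim)).prod = pr hp σ hσ a i ∧ 0 ≤ a ∧ (a = 0 → i ≤ 0) ∧
      (a = 1 → ∃ (ξ : X) (hξ : topologicalKrullDim (closure ({ξ} : Set X)) = 1) (j : ℤ),
        ncl (k := k) hdim hξ = pr hp σ hσ 1 j ∧ i ≤ j) := by
  induction t using Multiset.induction_on with
  | empty => exact ⟨0, 0, by rw [Multiset.map_zero, Multiset.prod_zero, pr_zero], le_rfl, fun _ => le_rfl,
      fun h => absurd h (by decide)⟩
  | cons ξ t ih =>
    obtain ⟨a, i, he, ha, h0, h1⟩ := ih fun z hz => ht z (Multiset.mem_cons_of_mem hz)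
    have hξ := ht ξ (Multiset.mem_cons_self ξ t)
    obtain ⟨b, j, hb, hbj⟩ := curve_cases hp σ hσk hσ hdim ξ hξ
    refine ⟨b + a, j + i, ?_, by omega, fun hs => ?_, fun hs => ?_⟩
    · rw [Multiset.map_cons, Multiset.prod_cons, he, ccl, Goodman10.cl'_eq (k := k) _ _ hξ]
      exact (congrArg (· * pr hp σ hσ a i) hb).trans (pr_mul ..)
    · have := h0 (by omega)
      omega
    · rcases hbj with ⟨rfl, rfl⟩ | ⟨hb1, -, -⟩
      · obtain ⟨z, hz, l, hl, hil⟩ := h1 (by omega)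
        exact ⟨z, hz, l, hl, by omega⟩
      · obtain rfl : b = 1 := by omega
        have := h0 (by omega)
        exact ⟨ξ, hξ, j, hb, by omega⟩

/-- A line through the point gives a rational curve of class `H - E`. -/
theorem exists_ruling : ∃ (ξ : X) (hξ : topologicalKrullDim (closure ({ξ} : Set X)) = 1),
    ncl (k := k) hdim hξ = pr hp σ hσ 1 1 := by
  haveI : IsNoetherian X := CohFound.isNoetherian_of_isProper (X ↘ Spec (CommRingCat.of k))
  have hchi := chi_pr hp σ hσk hσ hdim 1 1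
  rw [chi_eq hdim, duality hp σ hσk hσ hdim 1 1 (q := 2) le_rfl,
    hh0_eq_zero_of_neg_line hp σ hσk hσ hdim (a := -3 - 1) _ (by decide)] at hchi
  have hpos : 0 < hh k 0 (pr hp σ hσ 1 1) := by
    push_cast at hchi
    omega
  haveI := finite_hh (k := k) hdim (pr hp σ hσ 1 1) 0
  have hnt : Nontrivial (Coh.HH X (rep (pr hp σ hσ 1 1)) 0) := Module.finrank_pos_iff.1 hpos
  obtain ⟨φ, hφ⟩ := SurfRR10.exists_sec_of_nontrivial (k := k) hdim (rep_inv _) hnt
  have hN := rep_inv (pr hp σ hσ 1 1)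
  have hφ0 : φ ≠ 0 := fun h => by
    rw [h, Amp.mem_genLocus_iff hN, show Amp.gval (0 : Coh.structureModule X ⟶ rep (pr hp σ hσ 1 1)) = 0 from rfl,
      Amp.gm, map_zero] at hφ
    exact one_ne_zero (hφ.1 ((smul_zero (1 : X.presheaf.stalk (genericPoint X))).trans (smul_zero 0).symm))
  have hZc := IrrDiv13.isEffCartier_zeroScheme hN φ hφ0
  obtain ⟨N', hN', ⟨eN⟩⟩ := M2.exists_inverse hN
  obtain ⟨eZ⟩ := IrrDiv13.nonempty_inverse_iso_zeroScheme hN hN' eN φ hφ0
  have hcN : PicGrp.cls _ hN * icl hZc = 1 :=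
    (PicGrp.cls_mul_cls_eq_one_iff hN (M2.isInvertible_idealMod _ hZc)).2 ⟨M2.tensorIso (Iso.refl _) eZ.symm ≪≫ eN⟩
  obtain ⟨s, hs, -, hcl', -⟩ := exists_multiset (k := k) hdim _ hZc
  rw [cls_rep, hcl' hZc, mul_inv_eq_one] at hcN
  obtain ⟨a, i, he, -, -, h1⟩ := exists_split hp σ hσk hσ hdim s hs
  have e1 := congrArg (fun c => sdot k c (pr hp σ hσ 1 0)) (hcN.trans he)
  have e2 := congrArg (fun c => sdot k c (pr hp σ hσ 0 1)) (hcN.trans he)
  simp only [sdot_prpr hp σ hσk hσ hdim] at e1 e2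
  obtain ⟨ξ, hξ, j, hj, hij⟩ := h1 (by omega)
  refine ⟨ξ, hξ, ?_⟩
  obtain ⟨b, l, hb, hbl⟩ := curve_cases hp σ hσk hσ hdim ξ hξ
  have e3 := congrArg (fun c => sdot k c (pr hp σ hσ 1 0)) (hj.symm.trans hb)
  have e4 := congrArg (fun c => sdot k c (pr hp σ hσ 0 1)) (hj.symm.trans hb)
  simp only [sdot_prpr hp σ hσk hσ hdim] at e3 e4
  obtain rfl : b = 1 := by omega
  obtain rfl : l = 1 := by
    rcases hbl with ⟨h, -⟩ | ⟨-, hl0, hg⟩
    · exact absurd h (by decide)
    · nlinarith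
  exact hb

/-- Peeling a rational curve. -/
theorem van_one_step {ξ : X} (hξ : topologicalKrullDim (closure ({ξ} : Set X)) = 1) {a i : ℤ}
    (hn : ncl (k := k) hdim hξ = pr hp σ hσ a i) (hg : a * a - i * i - 3 * a + i = -2) {b j : ℤ}
    (hd : -1 ≤ a * b - i * j) (h : Subsingleton (Coh.HH X (rep (pr hp σ hσ (b - a) (j - i))) 1)) :
    Subsingleton (Coh.HH X (rep (pr hp σ hσ b j)) 1) := by
  haveI : IsNoetherian X := CohFound.isNoetherian_of_isProper (X ↘ Spec (CommRingCat.of k))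
  obtain ⟨W, hW⟩ := NumConn10.exists_canonical (k := k) hdim
  have hWi := SurfRR10.isInvertible_canonical hdim hW
  obtain ⟨g, hg', hχ, -⟩ := SurfRR10.exists_genus (k := k) hdim hW hWi hξ
  rw [hn, canonical_pr hp σ hσk hσ hdim hW hWi, sdot_prpr hp σ hσk hσ hdim, sdot_prpr hp σ hσk hσ hdim] at hg'
  let c := pr hp σ hσ b j
  have hM := rep_inv c
  have h3 := NumConn10.subsingleton_h1_tw (k := k) hdim hξ (by omega) hM (by
    rw [cls_rep, hn, sdot_prpr hp σ hσk hσ hdim]; omega)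
  have hI := cartier_pt (k := k) hdim hξ
  have hIi := M2.isInvertible_idealMod (ptIdeal ξ) hI
  obtain ⟨e⟩ := (PicGrp.cls_eq_cls_iff (rep_inv (pr hp σ hσ (b - a) (j - i))) (M2.isInvertible_tensor hIi hM)).1 (by
    rw [← AlgEquiv22.cls_tensor hIi hM, cls_rep, cls_rep, SurfRR10.cls_ideal_pt (k := k) hdim hξ, hn, pr_inv, pr_mul,
      neg_add_eq_sub, neg_add_eq_sub])
  exact CMReg18.van_iso k (M2.tensorLUnit _)
    (CMReg18.van₂ k (CurveCoh17.twistSES hM (ptIdeal ξ)) (CMReg18.van_iso k e h) h3)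

omit hσk in
theorem hh_eq_zero_iff (c : PicLoc.PicSet X) (q : ℕ) : hh k q c = 0 ↔ Subsingleton (Coh.HH X (rep c) q) := by
  haveI := finite_hh (k := k) hdim c q
  exact ⟨fun h => Module.finrank_zero_iff.1 h, fun h => Module.finrank_zero_of_subsingleton⟩

theorem van_one : ∀ (b : ℕ) (q : ℤ), (b : ℤ) - 1 ≤ q → Subsingleton (Coh.HH X (rep (pr hp σ hσ q b)) 1)
  | 0 => by
    obtain ⟨η, hη, hE⟩ := exists_exc hp σ hσk hσ hdim
    obtain ⟨ξ, hξ, hC⟩ := exists_ruling hp σ hσk hσ hdim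
    intro q hq
    obtain ⟨n, rfl⟩ : ∃ n : ℕ, q = (n : ℤ) - 1 := ⟨(q + 1).toNat, by omega⟩
    clear hq
    induction n with
    | zero =>
      refine (hh_eq_zero_iff (k := k) hdim _ 1).1 ?_
      have hchi := chi_pr hp σ hσk hσ hdim (-1) 0
      rw [chi_eq hdim, duality hp σ hσk hσ hdim (-1) 0 (q := 2) le_rfl,
        hh0_eq_zero_of_neg_line hp σ hσk hσ hdim (a := -3 - -1) _ (by decide),
        hh0_eq_zero_of_neg_line hp σ hσk hσ hdim (a := -1) _ (by decide)] at hchi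
      simp only [Nat.cast_zero, zero_add, zero_sub] at hchi ⊢
      omega
    | succ n ih =>
      refine van_one_step hp σ hσk hσ hdim hξ hC (by norm_num) (by push_cast; omega) ?_
      refine van_one_step hp σ hσk hσ hdim hη hE (by norm_num) (by push_cast; omega) ?_
      exact van_congr hp σ hσ (by push_cast; ring) (by norm_num) ih
  | b + 1 => fun q hq => by
    obtain ⟨ξ, hξ, hC⟩ := exists_ruling hp σ hσk hσ hdim
    refine van_one_step hp σ hσk hσ hdim hξ hC (by norm_num) (by push_cast at hq ⊢; omega) ?_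
    exact van_congr hp σ hσ (by ring) (by push_cast; ring) (van_one b (q - 1) (by push_cast at hq; omega))

/-- `h⁰(qH - bE)` for `b ≥ 0`. -/
theorem hh0_pos (q : ℤ) (b : ℕ) :
    ((b : ℤ) ≤ q → 2 * (hh k 0 (pr hp σ hσ q b) : ℤ) = (q + 2) * (q + 1) - ((b : ℤ) + 1) * b) ∧
      (q < (b : ℤ) → hh k 0 (pr hp σ hσ q b) = 0) := by
  refine ⟨fun h => ?_, fun h => hh0_eq_zero_of_lt hp σ hσk hσ hdim h⟩
  have hchi := chi_pr hp σ hσk hσ hdim q b
  rw [chi_eq hdim, duality hp σ hσk hσ hdim q b (q := 2) le_rfl, hh0_eq_zero_of_neg_line hp σ hσk hσ hdim (a := -3 - q) _ (by omega),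
    (hh_eq_zero_iff (k := k) hdim _ 1).2 (van_one hp σ hσk hσ hdim b q (by omega))] at hchi
  push_cast at hchi
  linarith

/-- `h⁰(qH + bE) = h⁰(qH)` for `b ≥ 0`. -/
theorem hh0_neg (q : ℤ) : ∀ b : ℕ, hh k 0 (pr hp σ hσ q (-(b : ℤ))) = (q + 2).toNat.choose 2
  | 0 => by
    rw [Nat.cast_zero, neg_zero]
    by_cases hq : q < 0
    · rw [hh0_eq_zero_of_neg_line hp σ hσk hσ hdim _ hq, Nat.choose_eq_zero_of_lt (by omega)]
    · obtain ⟨n, rfl⟩ : ∃ n : ℕ, q = (n : ℤ) := ⟨q.toNat, by omega⟩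
      have h := (hh0_pos hp σ hσk hσ hdim (n : ℤ) 0).1 (by omega)
      push_cast at h
      rw [show ((n : ℤ) + 2).toNat = n + 2 by omega, Nat.choose_two_right, show n + 2 - 1 = n + 1 by omega]
      have h2 : 2 * hh k 0 (pr hp σ hσ (n : ℤ) 0) = (n + 2) * (n + 1) := by
        have : ((2 * hh k 0 (pr hp σ hσ (n : ℤ) 0) : ℕ) : ℤ) = (((n + 2) * (n + 1) : ℕ) : ℤ) := by
          push_cast; linarith
        exact_mod_cast this
      omega
  | b + 1 => by
    obtain ⟨η, hη, hE⟩ := exists_exc hp σ hσk hσ hdim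
    have h := ExcTwist10.hh0_mul_icl (k := k) hdim hη (pr hp σ hσ q (-((b + 1 : ℕ) : ℤ))) (by
      rw [hE, sdot_prpr hp σ hσk hσ hdim]; push_cast; omega)
    rw [hE, pr_inv, pr_mul] at h
    rw [← h, ← hh0_neg q b]
    congr 2 <;> push_cast <;> ring

omit hp hσk in
/-- A module's cohomology from its class. -/
theorem finrank_eq_hh {M : X.Modules} (hM : PicF.IsInvertible M) (q : ℕ) :
    Module.finrank k (Coh.HH X M q) = hh k q (PicGrp.cls M hM) := by
  obtain ⟨e⟩ := (PicGrp.cls_eq_cls_iff hM (rep_inv (PicGrp.cls M hM))).1 (cls_rep _).symm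
  exact (CurveCoh17.hequiv k e q).finrank_eq

end Groth.Agent.PlaneOne10

end

namespace Groth.Agent.PlaneOne10

theorem two_mul_choose_two (n : ℕ) : 2 * (n.choose 2 : ℤ) = (n : ℤ) * ((n : ℤ) - 1) := by
  induction n with
  | zero => simp
  | succ n ih =>
    rw [Nat.choose_succ_succ, Nat.choose_one_right]
    push_cast
    linarith

theorem two_mul_toNat_choose_two {m : ℤ} (h : 0 ≤ m) : 2 * (m.toNat.choose 2 : ℤ) = m * (m - 1) := by
  rw [two_mul_choose_two, Int.toNat_of_nonneg h]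

theorem toNat_choose_two_eq_zero {m : ℤ} (h : m ≤ 1) : m.toNat.choose 2 = 0 := Nat.choose_eq_zero_of_lt (by omega)

end Groth.Agent.PlaneOne10
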